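import Groth.Agent.L14.RegImmStalk.Kinds
import Groth.Agent.L16.AffineBC.Pullback
import Groth.Agent.L19.LocFreeDescent
import Groth.Agent.L18.IdealModule
import Groth.Agent.L20.ModStalk
import Mathlib.RingTheory.Ideal.Cotangent
import Mathlib.LinearAlgebra.TensorProduct.Quotient
import Groth.Prelude.Def_Omega4

/-! # The conormal sheaf of a quasi-regular closed immersion is finite locally free -/

set_option autoImplicit false
set_option linter.style.haveILetI false
set_option linter.unusedSectionVars false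
set_option backward.isDefEq.respectTransparency.types false
set_option backward.isDefEq.respectTransparency false

universe u

open CategoryTheory AlgebraicGeometry TopologicalSpace MvPolynomial
open scoped TensorProduct

noncomputable section

namespace Groth.L14.Conormal

open Groth.L18.Frame (rs ro rs_rs rs_self)

/-- The cotangent module of an ideal generated by a quasi-regular sequence is free. -/
theorem free_cotangent {T : Type u} [CommRing T] {c : ℕ} (f : Fin c → T) (hf : CAlgX.IsQuasiRegular f)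
    {J : Ideal T} (hJ : Ideal.span (Set.range f) = J) :
    Module.Free (T ⧸ J) J.Cotangent ∧ Module.Finite (T ⧸ J) J.Cotangent := by
  classical
  subst hJ
  set J := Ideal.span (Set.range f)
  let g : Fin c → J := fun i => ⟨f i, Ideal.subset_span ⟨i, rfl⟩⟩
  let v : Fin c → J.Cotangent := fun i => J.toCotangent (g i)
  have hcoe : ∀ a : Fin c → T, ((∑ i, a i • g i : J) : T) = ∑ i, a i * f i := fun a => by
    simp [g, AddSubmonoidClass.coe_finsetSum]
  have hsum : ∀ a : Fin c → T, ∑ i, Ideal.Quotient.mk J (a i) • v i = J.toCotangent (∑ i, a i • g i) := fun a => by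
    rw [map_sum]
    refine Finset.sum_congr rfl fun i _ => ?_
    rw [map_smul]
    rfl
  have hli : LinearIndependent (T ⧸ J) v := by
    rw [Fintype.linearIndependent_iff]
    intro a ha i
    choose b hb using fun i => Ideal.Quotient.mk_surjective (a i)
    simp only [← hb] at ha ⊢
    rw [hsum, Ideal.toCotangent_eq_zero, hcoe] at ha
    rw [Ideal.Quotient.eq_zero_iff_mem]
    have h := hf 1 (∑ j, C (b j) * X j) (IsHomogeneous.sum _ _ _ fun j _ => (isHomogeneous_X T j).C_mul _)
      (by simpa using ha) (Finsupp.single i 1)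
    simpa [coeff_sum, coeff_C_mul, coeff_X', Finsupp.single_eq_single_iff, eq_comm] using h
  have hsp : ⊤ ≤ Submodule.span (T ⧸ J) (Set.range v) := fun m _ => by
    obtain ⟨⟨y, hy⟩, rfl⟩ := J.toCotangent_surjective m
    obtain ⟨a, ha⟩ := Ideal.mem_span_range_iff_exists_fun.1 hy
    rw [show (⟨y, hy⟩ : J) = ∑ i, a i • g i from Subtype.ext ((hcoe a).trans ha).symm, ← hsum]
    exact Submodule.sum_mem _ fun i _ => Submodule.smul_mem _ _ (Submodule.subset_span ⟨i, rfl⟩)
  exact ⟨Module.Free.of_basis (Module.Basis.mk hli hsp), Module.Finite.of_basis (Module.Basis.mk hli hsp)⟩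

/-- The base change to `T ⧸ J` of an ideal generated by a quasi-regular sequence is finite projective. -/
theorem finite_projective_tensor {T : Type u} [CommRing T] {c : ℕ} (f : Fin c → T) (hf : CAlgX.IsQuasiRegular f)
    {J : Ideal T} (hJ : Ideal.span (Set.range f) = J) :
    Module.Finite (T ⧸ J) ((T ⧸ J) ⊗[T] J) ∧ Module.Projective (T ⧸ J) ((T ⧸ J) ⊗[T] J) := by
  obtain ⟨h1, h2⟩ := free_cotangent f hf hJ
  let e : ((T ⧸ J) ⊗[T] J) ≃ₗ[T] J.Cotangent := TensorProduct.quotTensorEquivQuotSMul J J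
  let e' : ((T ⧸ J) ⊗[T] J) ≃ₗ[T ⧸ J] J.Cotangent :=
    LinearEquiv.extendScalarsOfSurjective Ideal.Quotient.mk_surjective e
  exact ⟨Module.Finite.equiv e'.symm, Module.Projective.of_equiv e'.symm⟩

variable {Z Y : Scheme.{u}}

set_option maxHeartbeats 1600000 in
/-- The conormal sheaf of a quasi-regular immersion is finite locally free. -/
theorem isFinLocFree_conormal (i : Z ⟶ Y) [QuasiCompact i]
    (h : ∀ z : Z, ∃ (V : Y.affineOpens) (c : ℕ) (f : Fin c → Γ(Y, V.1)), i z ∈ V.1 ∧ IsClosedImmersion (i ∣_ V.1) ∧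
      CAlgX.IsQuasiRegular f ∧ Ideal.span (Set.range f) = RingHom.ker (i.app V.1).hom) :
    FlatMod.IsFinLocFree (Omega.conormal i) := by
  classical
  let M := ClSub.idealMod i.ker
  haveI : Coh.IsQCoh (Omega.conormal i) := Groth.L16.AffineBC.isQCoh_pullback i M
  refine Groth.L19.PullChart.isFinLocFree_of_projective_charts _ fun z => ?_
  obtain ⟨V, c, f, hzV, hcl, hf, hJ⟩ := h z
  haveI := hcl
  haveI : IsAffine (V.1 : Scheme.{u}) := V.2
  set J := RingHom.ker (i.app V.1).hom
  have hU : IsAffineOpen (i ⁻¹ᵁ V.1) := isAffine_of_isAffineHom (i ∣_ V.1)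
  let T := Γ(Y, V.1)
  let A := Γ(Z, i ⁻¹ᵁ V.1)
  letI algTA : Algebra T A := (i.appLE V.1 (i ⁻¹ᵁ V.1) le_rfl).hom.toAlgebra
  have hal : ∀ a : T, algebraMap T A a = i.app V.1 a := fun a =>
    congr($((Scheme.Hom.app_eq_appLE i (U := V.1)).symm) a)
  letI := Module.compHom Γ((Scheme.Modules.pullback i).obj M, i ⁻¹ᵁ V.1) (i.appLE V.1 (i ⁻¹ᵁ V.1) le_rfl).hom
  haveI : IsScalarTower T A Γ((Scheme.Modules.pullback i).obj M, i ⁻¹ᵁ V.1) := IsScalarTower.of_algebraMap_smul fun _ _ => rfl
  have hbc : IsBaseChange A (Groth.L16.AffineBC.pullRes i M (le_rfl : i ⁻¹ᵁ V.1 ≤ i ⁻¹ᵁ V.1)) :=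
    Groth.L16.AffineBC.isBaseChange_pull i M V.2 hU le_rfl
  have hker : i.ker.ideal V = J := Scheme.Hom.ker_apply _ _
  let ι₀ : Γ(M, V.1) →ₗ[T] J :=
    { toFun := fun s => ⟨_root_.OmegaSh.idealSect i.ker V.1 s,
        hker ▸ (Groth.L18.IdealModule.mem_ideal_iff i.ker V.2 (_root_.OmegaSh.idealSect i.ker V.1 s)).2 ⟨s, rfl⟩⟩
      map_add' := fun a b => Subtype.ext (map_add _ a b)
      map_smul' := fun a s => Subtype.ext (Scheme.Modules.Hom.app_smul (ClSub.idealModι i.ker) a s) }
  have hι : Function.Bijective ι₀ := ⟨fun a b e => _root_.OmegaSh.idealModι_app_injective _ _ (congrArg Subtype.val e),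
    fun b => by
      obtain ⟨s, hs⟩ := (Groth.L18.IdealModule.mem_ideal_iff i.ker V.2 b.1).1 (hker.ge b.2)
      exact ⟨s, Subtype.ext hs⟩⟩
  let q : T ⧸ J →+* A := Ideal.Quotient.lift J (algebraMap T A) fun a ha => (hal a).trans (RingHom.mem_ker.1 ha)
  letI : Algebra (T ⧸ J) A := q.toAlgebra
  haveI : IsScalarTower T (T ⧸ J) A := IsScalarTower.of_algebraMap_eq fun _ => rfl
  obtain ⟨h1, h2⟩ := finite_projective_tensor f hf hJ
  let e₁ : A ⊗[T] J ≃ₗ[A] A ⊗[T ⧸ J] ((T ⧸ J) ⊗[T] J) :=
    (TensorProduct.AlgebraTensorModule.cancelBaseChange T (T ⧸ J) A A J).symm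
  let eP : Γ(Omega.conormal i, i ⁻¹ᵁ V.1) ≃ₗ[A] A ⊗[T ⧸ J] ((T ⧸ J) ⊗[T] J) :=
    (hbc.equiv.symm.trans ((LinearEquiv.ofBijective ι₀ hι).baseChange T A _ _)).trans e₁
  let R : CommRingCat.{u} := Γ(Z, i ⁻¹ᵁ V.1)
  let j : Spec R ⟶ Z := hU.fromSpec
  haveI : ((Omega.conormal i).restrict j).IsQuasicoherent :=
    Scheme.Modules.isQuasicoherent_restrictFunctor j _
  let N' := (moduleSpecΓFunctor (R := R)).obj ((Omega.conormal i).restrict j)
  have e2 : hU.fromSpec ''ᵁ ⊤ = i ⁻¹ᵁ V.1 := by
    rw [Scheme.Hom.image_top_eq_opensRange, hU.opensRange_fromSpec]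
  let eN : N' ≃+ Γ(Omega.conormal i, i ⁻¹ᵁ V.1) :=
    { toFun := fun s => rs _ e2.ge (show Γ(Omega.conormal i, hU.fromSpec ''ᵁ ⊤) from s)
      invFun := fun t => (show Γ(Omega.conormal i, hU.fromSpec ''ᵁ ⊤) from rs _ e2.le t)
      left_inv := fun s => by
        show rs _ e2.le (rs _ e2.ge (show Γ(Omega.conormal i, hU.fromSpec ''ᵁ ⊤) from s)) = _
        rw [rs_rs]
        exact rs_self _ _ _
      right_inv := fun t => by
        show rs _ e2.ge (rs _ e2.le t) = t
        rw [rs_rs]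
        exact rs_self _ _ _
      map_add' := fun a b => map_add ((Omega.conormal i).presheaf.map (homOfLE e2.ge).op).hom a b }
  let eL : N' ≃ₗ[R] Γ(Omega.conormal i, i ⁻¹ᵁ V.1) :=
    { eN with
      map_smul' := fun r s => Groth.L20.ModStalk.finitePresentation_sections_affine.appIso_smul
        (Omega.conormal i) hU r (show Γ(Omega.conormal i, hU.fromSpec ''ᵁ ⊤) from s) }
  haveI : Module.Finite A Γ(Omega.conormal i, i ⁻¹ᵁ V.1) := Module.Finite.equiv eP.symm
  haveI : Module.Projective A Γ(Omega.conormal i, i ⁻¹ᵁ V.1) := Module.Projective.of_equiv eP.symm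
  haveI : Module.Finite R N' := Module.Finite.equiv eL.symm
  haveI : Module.Projective R N' := Module.Projective.of_equiv eL.symm
  refine ⟨R, j, inferInstance, N', ?_, Module.finitePresentation_of_projective _ _, inferInstance,
    ⟨(asIso ((Omega.conormal i).restrict j).fromTildeΓ).symm⟩⟩
  rw [hU.opensRange_fromSpec]
  exact hzV

/-- The conormal sheaf of a regular closed immersion is finite locally free. -/
theorem isFinLocFree_conormal_of_regular (i : Z ⟶ Y) (h : Mor2.IsRegularClosedImmersion i) :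
    FlatMod.IsFinLocFree (Omega.conormal i) := by
  haveI := h.1
  refine isFinLocFree_conormal i fun z => ?_
  obtain ⟨U, hU, hz, rs, hrs, e⟩ := h.2 z
  refine ⟨⟨U, hU⟩, rs.length, rs.get, hz, inferInstance, Groth.L14.RegImmStalk.kind_of_isRegular .quasi hrs, ?_⟩
  rw [Scheme.Hom.ker_apply] at e
  rw [e, Set.range_list_get]

end Groth.L14.Conormal
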