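import Groth.Agent.L16.AffineBC.Pullback
import Groth.Agent.L19.Thick.H1Reg
import Groth.Agent.L19.OmegaSh.Conormal
import Groth.Agent.L19.OmegaSh.ConormalSeq
import Groth.Agent.L07.RegImmComp
import Groth.Agent.L07.RegImmAt
import Groth.Agent.L18.IdealModule
import Groth.Agent.L21.Mod.Stalks
import Mathlib.LinearAlgebra.TensorProduct.Quotient
import Groth.Prelude.Def_RegImm

/-! # The conormal sequence is left exact when the smaller immersion is `H₁`-regular -/

set_option autoImplicit false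
set_option linter.style.haveILetI false
set_option linter.unusedSectionVars false
set_option backward.isDefEq.respectTransparency.types false
set_option backward.isDefEq.respectTransparency false

universe u

open CategoryTheory AlgebraicGeometry TopologicalSpace Opposite
open scoped TensorProduct

noncomputable section

namespace Groth.L14.Conormal

open Groth.L18.Frame (rs ro rs_rs rs_self rs_smul)
open Groth.L16.AffineBC (pullRes)
open OmegaSh (idealSect conormalSect pullSect IsConormalMap)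
open Groth.L19.OmegaSh (idl app_idealSect idealSect_smul idealSect_injective exists_idealSect)

/-- `H₁`-regular sequences stay `H₁`-regular in a localization. -/
theorem isH1Regular_localization {A : Type u} [CommRing A] (M : Submonoid A) (L : Type u) [CommRing L] [Algebra A L]
    [IsLocalization M L] {c : ℕ} {f : Fin c → A} (hf : CAlgX.IsH1Regular f) :
    CAlgX.IsH1Regular fun i => algebraMap A L (f i) := by
  classical
  intro a ha
  obtain ⟨b, hb⟩ := IsLocalization.exist_integer_multiples M Finset.univ a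
  choose v hv using fun i => hb i (Finset.mem_univ i)
  have h0 : algebraMap A L (∑ i, v i * f i) = 0 := by
    rw [map_sum]
    have : ∀ i, algebraMap A L (v i * f i) = algebraMap A L b * (a i * algebraMap A L (f i)) := fun i => by
      rw [map_mul, hv i, Algebra.smul_def, mul_assoc]
    simp only [this, ← Finset.mul_sum, ha, mul_zero]
  obtain ⟨t, ht⟩ := (IsLocalization.map_eq_zero_iff M L _).1 h0
  have hw := hf (fun i => (t : A) * v i) (by simpa [mul_assoc, ← Finset.mul_sum] using ht)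
  let φ : (Fin c → A) →ₗ[A] (Fin c → L) := (Algebra.linearMap A L).compLeft (Fin c)
  let S : Submodule L (Fin c → L) := Submodule.span L {v : Fin c → L | ∃ i j : Fin c,
    v = Pi.single i (algebraMap A L (f j)) - Pi.single j (algebraMap A L (f i))}
  have h1 : φ (fun i => (t : A) * v i) ∈ S := by
    suffices Submodule.span A {v : Fin c → A | ∃ i j : Fin c, v = Pi.single i (f j) - Pi.single j (f i)} ≤
        (S.restrictScalars A).comap φ from this hw
    refine Submodule.span_le.2 ?_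
    rintro _ ⟨i, j, rfl⟩
    refine Submodule.subset_span ⟨i, j, funext fun k => ?_⟩
    simp [φ, Pi.single_apply, apply_ite (algebraMap A L)]
  have hu : IsUnit (algebraMap A L ((t : A) * b)) := IsLocalization.map_units L (t * b)
  have h2 : φ (fun i => (t : A) * v i) = algebraMap A L ((t : A) * b) • a := funext fun i => by
    show algebraMap A L ((t : A) * v i) = algebraMap A L ((t : A) * b) * a i
    rw [map_mul, map_mul, hv i, Algebra.smul_def, mul_assoc]
  rw [h2] at h1
  exact (Submodule.smul_mem_iff_of_isUnit S hu).1 h1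

variable {X Y Z : Scheme.{u}}

/-- Over an affine open where the map is a closed immersion, pulled back sections are surjective with kernel the ideal times
the sections. -/
theorem pullSect_closed (g : Z ⟶ Y) (G : Y.Modules) [Coh.IsQCoh G] {V : Y.Opens} (hV : IsAffineOpen V)
    (hcl : IsClosedImmersion (g ∣_ V)) :
    Function.Surjective (pullSect g G V) ∧
      ∀ m, pullSect g G V m = 0 ↔ m ∈ (RingHom.ker (g.app V).hom • ⊤ : Submodule Γ(Y, V) Γ(G, V)) := by
  haveI := hcl
  haveI : IsAffine (V : Scheme.{u}) := hV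
  have hU : IsAffineOpen (g ⁻¹ᵁ V) := isAffine_of_isAffineHom (g ∣_ V)
  have hsurj := Groth.L07.RegImmComp.app_surjective g V hV hcl
  set J := RingHom.ker (g.app V).hom with hJdef
  have happ : ∀ a, g.appLE V (g ⁻¹ᵁ V) le_rfl a = g.app V a := fun a => by rw [← Scheme.Hom.app_eq_appLE]
  letI : Algebra Γ(Y, V) Γ(Z, g ⁻¹ᵁ V) := (g.appLE V (g ⁻¹ᵁ V) le_rfl).hom.toAlgebra
  letI := Module.compHom Γ((Scheme.Modules.pullback g).obj G, g ⁻¹ᵁ V) (g.appLE V (g ⁻¹ᵁ V) le_rfl).hom
  haveI : IsScalarTower Γ(Y, V) Γ(Z, g ⁻¹ᵁ V) Γ((Scheme.Modules.pullback g).obj G, g ⁻¹ᵁ V) :=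
    IsScalarTower.of_algebraMap_smul fun _ _ => rfl
  let P := pullRes g G (le_rfl : g ⁻¹ᵁ V ≤ g ⁻¹ᵁ V)
  have hbc : IsBaseChange Γ(Z, g ⁻¹ᵁ V) P := Groth.L16.AffineBC.isBaseChange_pull g G hV hU le_rfl
  have hP : ∀ m, pullSect g G V m = P m := fun m => (rs_self _ _ _).symm
  let q : (Γ(Y, V) ⧸ J) →ₐ[Γ(Y, V)] Γ(Z, g ⁻¹ᵁ V) :=
    Ideal.Quotient.liftₐ J (Algebra.ofId Γ(Y, V) Γ(Z, g ⁻¹ᵁ V)) fun a ha => (happ a).trans (RingHom.mem_ker.1 ha)
  have hqb : Function.Bijective q := by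
    refine ⟨fun a b => ?_, fun w => ?_⟩
    · obtain ⟨a, rfl⟩ := Ideal.Quotient.mk_surjective a
      obtain ⟨b, rfl⟩ := Ideal.Quotient.mk_surjective b
      intro h
      rw [Ideal.Quotient.eq, hJdef, RingHom.mem_ker, map_sub, sub_eq_zero, ← happ, ← happ]
      exact h
    · obtain ⟨a, rfl⟩ := hsurj w
      exact ⟨Ideal.Quotient.mk J a, happ a⟩
  let e : (Γ(G, V) ⧸ (J • ⊤ : Submodule Γ(Y, V) Γ(G, V))) ≃ₗ[Γ(Y, V)]
      Γ((Scheme.Modules.pullback g).obj G, g ⁻¹ᵁ V) :=
    (TensorProduct.quotTensorEquivQuotSMul Γ(G, V) J).symm.trans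
      ((TensorProduct.congr (LinearEquiv.ofBijective q.toLinearMap hqb) (LinearEquiv.refl _ _)).trans
        (hbc.equiv.restrictScalars Γ(Y, V)))
  have he : ∀ m, e (Submodule.Quotient.mk m) = P m := fun m => by
    show hbc.equiv ((TensorProduct.congr (LinearEquiv.ofBijective q.toLinearMap hqb) (LinearEquiv.refl _ _))
      ((TensorProduct.quotTensorEquivQuotSMul Γ(G, V) J).symm (Submodule.Quotient.mk m))) = P m
    rw [← TensorProduct.quotTensorEquivQuotSMul_mk_one_tmul, LinearEquiv.symm_apply_apply]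
    show hbc.equiv (q 1 ⊗ₜ m) = P m
    rw [map_one, IsBaseChange.equiv_tmul, one_smul]
  refine ⟨fun w => ?_, fun m => ?_⟩
  · obtain ⟨m, hm⟩ := Submodule.mkQ_surjective _ (e.symm w)
    exact ⟨m, (hP m).trans ((he m).symm.trans ((congrArg e hm).trans (e.apply_symm_apply w)))⟩
  · rw [hP, ← he, e.map_eq_zero_iff, Submodule.Quotient.mk_eq_zero]

theorem idealSect_mem_ker (i : Z ⟶ X) (W : X.Opens) (s : Γ(idl i, W)) :
    idealSect i.ker W s ∈ RingHom.ker (i.app W).hom := app_idealSect i W s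

variable (i : Z ⟶ Y) (j : Y ⟶ X) [IsImmersion i] [IsImmersion j] [QuasiCompact i] [QuasiCompact j]

theorem injective_app_of_chart (a : (Scheme.Modules.pullback i).obj (Omega.conormal j) ⟶ Omega.conormal (i ≫ j))
    (ha : IsConormalMap (i ≫ j) j (𝟙 X) i a) {W : X.Opens} (hW : IsAffineOpen W) (hj : IsClosedImmersion (j ∣_ W))
    (hi : IsClosedImmersion (i ∣_ j ⁻¹ᵁ W)) {c : ℕ} (f : Fin c → Γ(Y, j ⁻¹ᵁ W))
    (hf : CAlgX.IsH1Regular f) (hker : RingHom.ker (i.app (j ⁻¹ᵁ W)).hom = Ideal.span (Set.range f)) :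
    Function.Injective (a.app (i ⁻¹ᵁ (j ⁻¹ᵁ W))) := by
  classical
  haveI := hj
  haveI := hi
  haveI : IsAffine (W : Scheme.{u}) := hW
  have hP : IsAffineOpen (j ⁻¹ᵁ W) := isAffine_of_isAffineHom (j ∣_ W)
  haveI : Coh.IsQCoh (Omega.conormal j) := Groth.L16.AffineBC.isQCoh_pullback j _
  have hcomp : IsClosedImmersion ((i ≫ j) ∣_ W) := by
    rw [morphismRestrict_comp]
    exact IsClosedImmersion.comp _ _
  obtain ⟨sj, kj⟩ := pullSect_closed j (ClSub.idealMod j.ker) hW hj
  obtain ⟨si, ki⟩ := pullSect_closed i (Omega.conormal j) hP hi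
  obtain ⟨-, kc⟩ := pullSect_closed (i ≫ j) (ClSub.idealMod (i ≫ j).ker) hW hcomp
  have hcompapp : ∀ t, (i ≫ j).app W t = i.app (j ⁻¹ᵁ W) (j.app W t) := fun t => by
    rw [Scheme.Hom.comp_app]
    rfl
  rw [injective_iff_map_eq_zero]
  intro w hw
  obtain ⟨n, rfl⟩ := si w
  obtain ⟨m, rfl⟩ := sj n
  set I := RingHom.ker (j.app W).hom
  set K := RingHom.ker ((i ≫ j).app W).hom
  let x := idealSect j.ker W m
  have hxI : x ∈ I := idealSect_mem_ker j W m
  obtain ⟨s, hs⟩ := exists_idealSect (i ≫ j) W x (by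
    rw [hcompapp, RingHom.mem_ker.1 hxI, map_zero])
  have hmap := ha.2 W m s hs (i ⁻¹ᵁ (j ⁻¹ᵁ W)) le_rfl le_rfl
  have hs0 : pullSect (i ≫ j) (ClSub.idealMod (i ≫ j).ker) W s = 0 := by
    refine ((rs_self _ _ _).symm.trans (hmap.symm.trans ?_))
    refine (rs_self (Omega.conormal (i ≫ j)) _ _).trans ?_
    exact hw
  have hxK : x ∈ K * K := by
    rw [← hs]
    have hmem := (kc s).1 hs0
    refine Submodule.smul_induction_on hmem (fun r hr t _ => ?_) fun y y' hy hy' => ?_
    · rw [idealSect_smul]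
      exact Ideal.mul_mem_mul hr (idealSect_mem_ker _ _ t)
    · rw [map_add]
      exact add_mem hy hy'
  have hsurj := Groth.L07.RegImmComp.app_surjective j W hW hj
  choose F hF using fun k => hsurj (f k)
  have hK : K = I ⊔ Ideal.span (Set.range F) := by
    have h1 : K = (RingHom.ker (i.app (j ⁻¹ᵁ W)).hom).comap (j.app W).hom := by
      ext t
      rw [RingHom.mem_ker, Ideal.mem_comap, RingHom.mem_ker, hcompapp]
    rw [h1, hker, show Ideal.span (Set.range f) = (Ideal.span (Set.range F)).map (j.app W).hom by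
      rw [Ideal.map_span, ← Set.range_comp]
      exact congrArg (fun r => Ideal.span (Set.range r)) (funext fun k => (hF k).symm),
      Ideal.comap_map_of_surjective _ hsurj, sup_comm]
    try rfl
  have hxIK := Groth.L19.Thick.mem_mul_of_h1Regular (j.app W).hom hsurj K F hK
    (by simpa [hF] using hf) x hxI hxK
  have hm : m ∈ (K • ⊤ : Submodule Γ(X, W) Γ(ClSub.idealMod j.ker, W)) := by
    suffices ∀ y ∈ RingHom.ker (j.app W).hom * K, ∃ m' ∈ (K • ⊤ : Submodule Γ(X, W) Γ(ClSub.idealMod j.ker, W)),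
        idealSect j.ker W m' = y by
      obtain ⟨m', hm', e⟩ := this x hxIK
      rwa [idealSect_injective (i := j) W e] at hm'
    intro y hy
    refine Submodule.mul_induction_on hy (fun p hp r hr => ?_) ?_
    · obtain ⟨t, ht⟩ := exists_idealSect j W p (RingHom.mem_ker.1 hp)
      exact ⟨r • t, Submodule.smul_mem_smul hr trivial, by rw [idealSect_smul, ht, mul_comm]⟩
    · rintro y y' ⟨m₁, hm₁, rfl⟩ ⟨m₂, hm₂, rfl⟩
      exact ⟨m₁ + m₂, add_mem hm₁ hm₂, map_add _ _ _⟩
  refine (ki _).2 ?_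
  refine Submodule.smul_induction_on hm (fun r hr t _ => ?_) fun y y' hy hy' => ?_
  · rw [show pullSect j (ClSub.idealMod j.ker) W (r • t) = j.app W r • pullSect j (ClSub.idealMod j.ker) W t from
      Scheme.Modules.Hom.app_smul ((Scheme.Modules.pullbackPushforwardAdjunction j).unit.app _) r t]
    refine Submodule.smul_mem_smul ?_ trivial
    rw [RingHom.mem_ker]
    exact (hcompapp r).symm.trans (RingHom.mem_ker.1 hr)
  · rw [map_add]
    exact add_mem hy hy'

/-- `i^* C_{Y/X} → C_{Z/X}` is a monomorphism when `i` is `H₁`-regular. -/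
theorem mono_conormalMap (a : (Scheme.Modules.pullback i).obj (Omega.conormal j) ⟶ Omega.conormal (i ≫ j))
    (ha : IsConormalMap (i ≫ j) j (𝟙 X) i a) (hi : RegImm.IsRegularImmersion RegImm.Kind.h1 i) : Mono a := by
  classical
  have hbasis : ∀ (z : Z) (O : Z.Opens), z ∈ O → ∃ U : Z.Opens, z ∈ U ∧ U ≤ O ∧ Function.Injective (a.app U) := by
    intro z O hzO
    obtain ⟨⟨V, hV⟩, hzV, hclV, rs', hrs', hkV⟩ := hi.2 z
    obtain ⟨X₁, hzX₁, hclj⟩ := Groth.L07.RegImmAt.exists_isClosedImmersion_restrict j (i z)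
    obtain ⟨OY, hOY, hOYe⟩ := (i.isEmbedding.isInducing.isOpen_iff).1 O.2
    let V' : Y.Opens := V ⊓ ⟨OY, hOY⟩
    have hzV' : i z ∈ V' := ⟨hzV, by
      show z ∈ i ⁻¹' OY
      rw [hOYe]
      exact hzO⟩
    obtain ⟨OX, hOX, hOXe⟩ := (j.isEmbedding.isInducing.isOpen_iff).1 V'.2
    let X₂ : X.Opens := X₁ ⊓ ⟨OX, hOX⟩
    have hzX₂ : j (i z) ∈ X₂ := ⟨hzX₁, by
      show i z ∈ j ⁻¹' OX
      rw [hOXe]
      exact hzV'⟩
    obtain ⟨_, ⟨W₀, hW₀, rfl⟩, hzW₀, hW₀le⟩ := (X.isBasis_affineOpens).exists_subset_of_mem_open hzX₂ X₂.2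
    have hcl₀ := Groth.L07.RegImmAt.restrict_closed j ((show W₀ ≤ X₂ from hW₀le).trans inf_le_left) hclj
    have hP : IsAffineOpen (j ⁻¹ᵁ W₀) := by
      haveI := hcl₀
      haveI : IsAffine (W₀ : Scheme.{u}) := hW₀
      exact isAffine_of_isAffineHom (j ∣_ W₀)
    have hPV : ∀ y ∈ j ⁻¹ᵁ W₀, y ∈ V' := fun y hy => by
      exact (Set.ext_iff.1 hOXe y).1 (hW₀le hy).2
    obtain ⟨p, g, hpg, hzp⟩ := exists_basicOpen_le_affine_inter hP hV (i z) ⟨hzW₀, hzV⟩
    obtain ⟨b, rfl⟩ := Groth.L07.RegImmComp.app_surjective j W₀ hW₀ hcl₀ p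
    let W := X.basicOpen b
    have hWe : j ⁻¹ᵁ W = Y.basicOpen g := (j.preimage_basicOpen b).trans hpg
    refine ⟨i ⁻¹ᵁ (j ⁻¹ᵁ W), ?_, fun z' hz' => ?_, ?_⟩
    · show i z ∈ j ⁻¹ᵁ W
      rw [j.preimage_basicOpen b]
      exact hzp
    · exact (Set.ext_iff.1 hOYe z').1 (hPV _ (j.preimage_mono (X.basicOpen_le b) hz')).2
    · haveI := hV.isLocalization_basicOpen g
      have hPle : j ⁻¹ᵁ W ≤ V := hWe.le.trans (Y.basicOpen_le g)
      obtain ⟨hclP, hkP⟩ := Groth.L07.RegImmAt.ker_restrict hV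
        (show IsAffineOpen (j ⁻¹ᵁ W) by rw [hWe]; exact hV.basicOpen g) hPle hclV
      letI : Algebra Γ(Y, V) Γ(Y, j ⁻¹ᵁ W) := (Y.presheaf.map (homOfLE hPle).op).hom.toAlgebra
      haveI : IsLocalization.Away g Γ(Y, j ⁻¹ᵁ W) :=
        hV.isLocalization_of_eq_basicOpen g (homOfLE hPle) hWe
      refine injective_app_of_chart i j a ha (hW₀.basicOpen b)
        (Groth.L07.RegImmAt.restrict_closed j (X.basicOpen_le b) hcl₀) hclP
        (fun k => algebraMap Γ(Y, V) Γ(Y, j ⁻¹ᵁ W) (rs'.get k))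
        (isH1Regular_localization (Submonoid.powers g) _ hrs') ?_
      rw [hkP, hkV, Ideal.map_ofList, Ideal.ofList]
      refine congrArg Ideal.span (Set.ext fun t => ?_)
      constructor
      · intro ht
        obtain ⟨u, hu, rfl⟩ := List.mem_map.1 ht
        obtain ⟨k, hk⟩ := List.mem_iff_get.1 hu
        exact ⟨k, congrArg _ hk⟩
      · rintro ⟨k, rfl⟩
        exact List.mem_map.2 ⟨_, List.get_mem _ _, rfl⟩
  refine ⟨fun {P} u v e => Scheme.Modules.hom_ext _ _ fun U => ?_⟩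
  ext t
  refine Groth.L19.OmegaSh.eq_of_local _ _ fun z hz => ?_
  obtain ⟨U', hzU', hle, hinj⟩ := hbasis z U hz
  refine ⟨U', hle, hzU', hinj ?_⟩
  have e' : a.app U (u.app U t) = a.app U (v.app U t) := congr($(e).app U t)
  rw [Groth.L19.OmegaSh.hom_rs, Groth.L19.OmegaSh.hom_rs, e']

end Groth.L14.Conormal
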